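import Cfsg.Agent.StemCert.Count
import Cfsg.Agent.StemCert.Packed
import Cfsg.Agent.G2FourMult.Points
import Cfsg.Agent.G2FourMult.CertData
import Cfsg.Agent.G2FourMult.CertPacked
import Cfsg.Agent.G2FourJ2.Data
import Cfsg.Agent.LeechModel.Words

/-! Checks of the multiplier certificate of `G2(4)` on 416 points: lower levels and rows. -/

set_option autoImplicit false
set_option maxHeartbeats 0
set_option maxRecDepth 100000
set_option Elab.async false

namespace Cfsg.Agent.G2FourMult

open Cfsg.Agent.Compute Cfsg.Agent.StemCert

theorem wf_ok : wfB cert.D = true := by decide +kernel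

theorem top_ok : cert.topOK 5 = true := by decide +kernel

theorem rel_ok : allBelow cert.nRel cert.relOK = true := by decide +kernel

theorem pow_ok : allBelow 5 cert.powOK = true := by decide +kernel

theorem commData_ok : allBelow 5 cert.commOK = true := by decide +kernel

theorem pv_ok : allBelow 4 (cert.pvOK pvs) = true := by decide +kernel

theorem bound_ok : cert.boundP = true := by decide +kernel

theorem lv1_0 : allBelow (lvAt cert.D 1).size (cert.entP pvs 1 0) = true := by decide +kernel

theorem lv1_1 : allBelow (lvAt cert.D 1).size (cert.entP pvs 1 1) = true := by decide +kernel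

theorem lv1_2 : allBelow (lvAt cert.D 1).size (cert.entP pvs 1 2) = true := by decide +kernel

theorem lv1_3 : allBelow (lvAt cert.D 1).size (cert.entP pvs 1 3) = true := by decide +kernel

theorem lv1_gens : (lvAt cert.D 1).gens = [0, 1, 2, 3] := rfl

theorem lv1_ok : cert.lvP pvs 1 = true := lvP_of_gens cert fun s hs => by
  rw [lv1_gens] at hs
  simp only [List.mem_cons, List.not_mem_nil, or_false] at hs
  rcases hs with rfl | rfl | rfl | rfl
  exacts [lv1_0, lv1_1, lv1_2, lv1_3]

theorem lv2_ok : cert.lvP pvs 2 = true := by decide +kernel

theorem lv3_ok : cert.lvP pvs 3 = true := by decide +kernel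

theorem row_ok : allB cert.rowOK cert.rows = true := by decide +kernel

theorem rows_ok : cert.rowsP pvs cert.rows rowVals = true := by decide +kernel

theorem basisP_ok : allBelow cert.dim (cert.basisP rowVals) = true := by decide +kernel

theorem ordP_ok : cert.ordP rowVals = true := by decide +kernel

theorem below_ok : gensBelow 5 cert.D = true := by decide +kernel

theorem blt_ok : allB (fun b => Nat.blt b 416) base = true := by decide +kernel

theorem distinct_ok : distinctB 9 codes cert.D base = true := by decide +kernel

theorem table_ok : allBelow 4 (cert.tableAt 9 codes base) = true := by decide +kernel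

theorem comm_ok : allBelow 5 (cert.commAt 9 codes base) = true := by decide +kernel

theorem shape_ok : cert.D.length = 4 ∧ cert.ord = 2 ∧ 0 < cert.ord ∧ cert.piv < cert.dim := by
  decide +kernel

theorem size_ok : numForms cert.D = 251596800 ∧ cert.md = 251596800 := by decide +kernel

theorem md_pos : 0 < cert.md := by decide +kernel

theorem words_ok : LeechModel.wordsB 416 9 48 G2FourJ2.rootCodes genWords codes 5 = true := by
  decide +kernel

end Cfsg.Agent.G2FourMult
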