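import Cfsg.Agent.G2FourMult.CertTopA
import Cfsg.Agent.G2FourMult.CertTopB
import Cfsg.Agent.G2FourMult.CertTopC
import Cfsg.Agent.G2FourMult.CertTopD
import Cfsg.Agent.G2FourMult.CertTopE
import Cfsg.Agent.G2FourMult.CertCheckB

/-! The checks of the multiplier certificate of `G2(4)`, assembled. -/

set_option autoImplicit false
set_option maxRecDepth 100000

namespace Cfsg.Agent.G2FourMult

open Cfsg.Agent.Compute Cfsg.Agent.StemCert

theorem allBelow_chunks {f : ℕ → Bool}
    (h : ∀ c < 8, allBelow 52 (fun j => f (52 * c + j)) = true) : allBelow 416 f = true := by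
  refine allBelow_eq_true.mpr fun j hj => ?_
  have := allBelow_eq_true.mp (h (j / 52) (by omega)) (j % 52) (by omega)
  rwa [Nat.div_add_mod] at this

theorem lv0_shape : (lvAt cert.D 0).gens = [0, 1, 2, 3, 4] ∧ (lvAt cert.D 0).size = 416 := by
  decide +kernel

attribute [local irreducible] cert pvs Cert.entP

theorem lv0_ok : cert.lvP pvs 0 = true := lvP_of_gens cert fun s hs => by
  rw [lv0_shape.2]
  rw [lv0_shape.1] at hs
  simp only [List.mem_cons, List.not_mem_nil, or_false] at hs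
  refine allBelow_chunks fun c hc => ?_
  rcases hs with rfl | rfl | rfl | rfl | rfl <;> interval_cases c
  exacts [lv0_0_0, lv0_0_1, lv0_0_2, lv0_0_3, lv0_0_4, lv0_0_5, lv0_0_6, lv0_0_7,
    lv0_1_0, lv0_1_1, lv0_1_2, lv0_1_3, lv0_1_4, lv0_1_5, lv0_1_6, lv0_1_7,
    lv0_2_0, lv0_2_1, lv0_2_2, lv0_2_3, lv0_2_4, lv0_2_5, lv0_2_6, lv0_2_7,
    lv0_3_0, lv0_3_1, lv0_3_2, lv0_3_3, lv0_3_4, lv0_3_5, lv0_3_6, lv0_3_7,
    lv0_4_0, lv0_4_1, lv0_4_2, lv0_4_3, lv0_4_4, lv0_4_5, lv0_4_6, lv0_4_7]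

theorem pvs_ok : ∀ i < cert.D.length, cert.pvOK pvs i = true := fun i hi =>
  allBelow_eq_true.mp pv_ok i (shape_ok.1 ▸ hi)

theorem checked : cert.Checked 5 :=
  { wf := wf_ok, top := top_ok, rel := rel_ok, pow := pow_ok, comm := commData_ok
    lv := fun i hi => by
      rw [shape_ok.1] at hi
      interval_cases i
      all_goals apply lvOK_of_lvP cert md_pos pvs_ok
      exacts [lv0_ok, lv1_ok, lv2_ok, lv3_ok]
    row := row_ok
    basis := allBelow_eq_true.mpr fun j hj =>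
      basisOK_of_basisP cert bound_ok pvs_ok rows_ok (allBelow_eq_true.mp basisP_ok j hj)
    order := ordOK_of_ordP cert bound_ok pvs_ok rows_ok ordP_ok
    piv_lt := shape_ok.2.2.1 }

end Cfsg.Agent.G2FourMult
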