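import Cfsg.Agent.StemCert.Count
import Cfsg.Agent.StemCert.Packed
import Cfsg.Agent.G2FourMult.CertData
import Cfsg.Agent.G2FourMult.CertPacked

/-! Checks of the multiplier certificate of `G2(4)`: top level, generator 0. -/

set_option autoImplicit false
set_option maxHeartbeats 0
set_option maxRecDepth 100000
set_option Elab.async false

namespace Cfsg.Agent.G2FourMult

open Cfsg.Agent.Compute Cfsg.Agent.StemCert

theorem lv0_0_0 : allBelow 52 (fun j => cert.entP pvs 0 0 (0 + j)) = true := by
  decide +kernel

theorem lv0_0_1 : allBelow 52 (fun j => cert.entP pvs 0 0 (52 + j)) = true := by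
  decide +kernel

theorem lv0_0_2 : allBelow 52 (fun j => cert.entP pvs 0 0 (104 + j)) = true := by
  decide +kernel

theorem lv0_0_3 : allBelow 52 (fun j => cert.entP pvs 0 0 (156 + j)) = true := by
  decide +kernel

theorem lv0_0_4 : allBelow 52 (fun j => cert.entP pvs 0 0 (208 + j)) = true := by
  decide +kernel

theorem lv0_0_5 : allBelow 52 (fun j => cert.entP pvs 0 0 (260 + j)) = true := by
  decide +kernel

theorem lv0_0_6 : allBelow 52 (fun j => cert.entP pvs 0 0 (312 + j)) = true := by
  decide +kernel

theorem lv0_0_7 : allBelow 52 (fun j => cert.entP pvs 0 0 (364 + j)) = true := by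
  decide +kernel

end Cfsg.Agent.G2FourMult
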