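import Cfsg.Agent.G2FourMult.CoverDefs

/-! Further relations of the lifts. -/

set_option autoImplicit false
set_option maxRecDepth 100000
set_option maxHeartbeats 0
set_option Elab.async false

namespace Cfsg.Agent.G2FourMult

open Cfsg.Agent.Compute Cfsg.Lie
open Cfsg.Agent.G2Four (K enc)

theorem add_0 : ∀ a b : K, relB [(0, a), (0, b)] [(0, a + b)] = true := by
  decide +kernel

theorem h_0 : ∀ a : K, ∀ b : K, a ≠ 0 → b ≠ 0 →
    relB (chevG2.hWord 0 a ++ chevG2.hWord 0 b) (chevG2.hWord 0 (a * b)) = true := by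
  decide +kernel

theorem add_1 : ∀ a b : K, relB [(1, a), (1, b)] [(1, a + b)] = true := by
  decide +kernel

theorem h_1 : ∀ a : K, ∀ b : K, a ≠ 0 → b ≠ 0 →
    relB (chevG2.hWord 1 a ++ chevG2.hWord 1 b) (chevG2.hWord 1 (a * b)) = true := by
  decide +kernel

theorem add_2 : ∀ a b : K, relB [(2, a), (2, b)] [(2, a + b)] = true := by
  decide +kernel

theorem h_2 : ∀ a : K, ∀ b : K, a ≠ 0 → b ≠ 0 →
    relB (chevG2.hWord 2 a ++ chevG2.hWord 2 b) (chevG2.hWord 2 (a * b)) = true := by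
  decide +kernel

theorem add_3 : ∀ a b : K, relB [(3, a), (3, b)] [(3, a + b)] = true := by
  decide +kernel

theorem h_3 : ∀ a : K, ∀ b : K, a ≠ 0 → b ≠ 0 →
    relB (chevG2.hWord 3 a ++ chevG2.hWord 3 b) (chevG2.hWord 3 (a * b)) = true := by
  decide +kernel

theorem add_4 : ∀ a b : K, relB [(4, a), (4, b)] [(4, a + b)] = true := by
  decide +kernel

theorem h_4 : ∀ a : K, ∀ b : K, a ≠ 0 → b ≠ 0 →
    relB (chevG2.hWord 4 a ++ chevG2.hWord 4 b) (chevG2.hWord 4 (a * b)) = true := by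
  decide +kernel

theorem add_5 : ∀ a b : K, relB [(5, a), (5, b)] [(5, a + b)] = true := by
  decide +kernel

theorem h_5 : ∀ a : K, ∀ b : K, a ≠ 0 → b ≠ 0 →
    relB (chevG2.hWord 5 a ++ chevG2.hWord 5 b) (chevG2.hWord 5 (a * b)) = true := by
  decide +kernel

theorem add_6 : ∀ a b : K, relB [(6, a), (6, b)] [(6, a + b)] = true := by
  decide +kernel

theorem h_6 : ∀ a : K, ∀ b : K, a ≠ 0 → b ≠ 0 →
    relB (chevG2.hWord 6 a ++ chevG2.hWord 6 b) (chevG2.hWord 6 (a * b)) = true := by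
  decide +kernel

theorem add_7 : ∀ a b : K, relB [(7, a), (7, b)] [(7, a + b)] = true := by
  decide +kernel

theorem h_7 : ∀ a : K, ∀ b : K, a ≠ 0 → b ≠ 0 →
    relB (chevG2.hWord 7 a ++ chevG2.hWord 7 b) (chevG2.hWord 7 (a * b)) = true := by
  decide +kernel

theorem add_8 : ∀ a b : K, relB [(8, a), (8, b)] [(8, a + b)] = true := by
  decide +kernel

theorem h_8 : ∀ a : K, ∀ b : K, a ≠ 0 → b ≠ 0 →
    relB (chevG2.hWord 8 a ++ chevG2.hWord 8 b) (chevG2.hWord 8 (a * b)) = true := by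
  decide +kernel

theorem add_9 : ∀ a b : K, relB [(9, a), (9, b)] [(9, a + b)] = true := by
  decide +kernel

theorem h_9 : ∀ a : K, ∀ b : K, a ≠ 0 → b ≠ 0 →
    relB (chevG2.hWord 9 a ++ chevG2.hWord 9 b) (chevG2.hWord 9 (a * b)) = true := by
  decide +kernel

theorem add_10 : ∀ a b : K, relB [(10, a), (10, b)] [(10, a + b)] = true := by
  decide +kernel

theorem h_10 : ∀ a : K, ∀ b : K, a ≠ 0 → b ≠ 0 →
    relB (chevG2.hWord 10 a ++ chevG2.hWord 10 b) (chevG2.hWord 10 (a * b)) = true := by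
  decide +kernel

theorem add_11 : ∀ a b : K, relB [(11, a), (11, b)] [(11, a + b)] = true := by
  decide +kernel

theorem h_11 : ∀ a : K, ∀ b : K, a ≠ 0 → b ≠ 0 →
    relB (chevG2.hWord 11 a ++ chevG2.hWord 11 b) (chevG2.hWord 11 (a * b)) = true := by
  decide +kernel

attribute [local irreducible] relB ChevalleyDatum.hWord in
theorem add_rel (r : Fin 12) : ∀ a b : K,
    relB [((r : ℕ), a), ((r : ℕ), b)] [((r : ℕ), a + b)] = true := by
  fin_cases r
  exacts [add_0, add_1, add_2, add_3, add_4, add_5, add_6, add_7, add_8, add_9, add_10, add_11]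

attribute [local irreducible] relB ChevalleyDatum.hWord in
theorem h_rel (r : Fin 12) : ∀ a b : K, a ≠ 0 → b ≠ 0 →
    relB (chevG2.hWord (r : ℕ) a ++ chevG2.hWord (r : ℕ) b)
      (chevG2.hWord (r : ℕ) (a * b)) = true := by
  fin_cases r
  exacts [h_0, h_1, h_2, h_3, h_4, h_5, h_6, h_7, h_8, h_9, h_10, h_11]

/-- The images of the first points lie in range, and the lift of `x_r(0)` fixes all points. -/
noncomputable def rangeB : Bool :=
  allBelow 48 (fun i => allBelow 2016 fun q =>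
    Nat.blt (getField 13 (liftCodes.getD i 0) q) 8064) &&
  allBelow 12 fun r => allBelow 2016 fun q =>
    Nat.beq (getField 13 (liftCodes.getD (Nat.mul 4 r) 0) q) (Nat.mul 4 q)

theorem range_ok : rangeB = true := by decide +kernel

theorem key_ok : eqShiftB 2 (strip [(2, (.e : K)), (2, .e)]) [] = true ∧
    eqShiftB 2 (strip [(2, (.w : K)), (2, .w)]) [] = true ∧
    eqShiftB 2 (strip [(2, (.e : K)), (2, .w), (2, .e), (2, .w)]) [] = true := by decide +kernel

end Cfsg.Agent.G2FourMult
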