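import Cfsg.Agent.G2FourMult.CoverDefs

/-! Commutator relations of the lifts, roots 0 and 1. -/

set_option autoImplicit false
set_option maxRecDepth 100000
set_option maxHeartbeats 0
set_option Elab.async false

namespace Cfsg.Agent.G2FourMult

open Cfsg.Lie
open Cfsg.Agent.G2Four (K)

theorem comm_0_1 : ∀ t u : K, relB [(1, u), (0, t), (1, u), (0, t)]
    (chevG2.commWord K 0 1 t u) = true := by decide +kernel

theorem comm_0_2 : ∀ t u : K, relB [(2, u), (0, t), (2, u), (0, t)]
    (chevG2.commWord K 0 2 t u) = true := by decide +kernel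

theorem comm_0_3 : ∀ t u : K, relB [(3, u), (0, t), (3, u), (0, t)]
    (chevG2.commWord K 0 3 t u) = true := by decide +kernel

theorem comm_0_4 : ∀ t u : K, relB [(4, u), (0, t), (4, u), (0, t)]
    (chevG2.commWord K 0 4 t u) = true := by decide +kernel

theorem comm_0_5 : ∀ t u : K, relB [(5, u), (0, t), (5, u), (0, t)]
    (chevG2.commWord K 0 5 t u) = true := by decide +kernel

theorem comm_0_6 : ∀ t u : K, relB [(6, u), (0, t), (6, u), (0, t)]
    (chevG2.commWord K 0 6 t u) = true := by decide +kernel

theorem comm_0_7 : ∀ t u : K, relB [(7, u), (0, t), (7, u), (0, t)]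
    (chevG2.commWord K 0 7 t u) = true := by decide +kernel

theorem comm_0_8 : ∀ t u : K, relB [(8, u), (0, t), (8, u), (0, t)]
    (chevG2.commWord K 0 8 t u) = true := by decide +kernel

theorem comm_0_9 : ∀ t u : K, relB [(9, u), (0, t), (9, u), (0, t)]
    (chevG2.commWord K 0 9 t u) = true := by decide +kernel

theorem comm_0_10 : ∀ t u : K, relB [(10, u), (0, t), (10, u), (0, t)]
    (chevG2.commWord K 0 10 t u) = true := by decide +kernel

theorem comm_1_0 : ∀ t u : K, relB [(0, u), (1, t), (0, u), (1, t)]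
    (chevG2.commWord K 1 0 t u) = true := by decide +kernel

theorem comm_1_2 : ∀ t u : K, relB [(2, u), (1, t), (2, u), (1, t)]
    (chevG2.commWord K 1 2 t u) = true := by decide +kernel

theorem comm_1_3 : ∀ t u : K, relB [(3, u), (1, t), (3, u), (1, t)]
    (chevG2.commWord K 1 3 t u) = true := by decide +kernel

theorem comm_1_4 : ∀ t u : K, relB [(4, u), (1, t), (4, u), (1, t)]
    (chevG2.commWord K 1 4 t u) = true := by decide +kernel

theorem comm_1_5 : ∀ t u : K, relB [(5, u), (1, t), (5, u), (1, t)]
    (chevG2.commWord K 1 5 t u) = true := by decide +kernel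

theorem comm_1_6 : ∀ t u : K, relB [(6, u), (1, t), (6, u), (1, t)]
    (chevG2.commWord K 1 6 t u) = true := by decide +kernel

theorem comm_1_7 : ∀ t u : K, relB [(7, u), (1, t), (7, u), (1, t)]
    (chevG2.commWord K 1 7 t u) = true := by decide +kernel

theorem comm_1_8 : ∀ t u : K, relB [(8, u), (1, t), (8, u), (1, t)]
    (chevG2.commWord K 1 8 t u) = true := by decide +kernel

theorem comm_1_9 : ∀ t u : K, relB [(9, u), (1, t), (9, u), (1, t)]
    (chevG2.commWord K 1 9 t u) = true := by decide +kernel

theorem comm_1_11 : ∀ t u : K, relB [(11, u), (1, t), (11, u), (1, t)]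
    (chevG2.commWord K 1 11 t u) = true := by decide +kernel

attribute [local irreducible] relB ChevalleyDatum.commWord in
theorem comm_0 : CommRel 0 := by
  intro s
  fin_cases s
  exacts [fun h _ => absurd rfl h, fun _ _ => comm_0_1, fun _ _ => comm_0_2,
    fun _ _ => comm_0_3, fun _ _ => comm_0_4, fun _ _ => comm_0_5,
    fun _ _ => comm_0_6, fun _ _ => comm_0_7, fun _ _ => comm_0_8,
    fun _ _ => comm_0_9, fun _ _ => comm_0_10, fun _ h => absurd (by decide) h]

attribute [local irreducible] relB ChevalleyDatum.commWord in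
theorem comm_1 : CommRel 1 := by
  intro s
  fin_cases s
  exacts [fun _ _ => comm_1_0, fun h _ => absurd rfl h, fun _ _ => comm_1_2,
    fun _ _ => comm_1_3, fun _ _ => comm_1_4, fun _ _ => comm_1_5,
    fun _ _ => comm_1_6, fun _ _ => comm_1_7, fun _ _ => comm_1_8,
    fun _ _ => comm_1_9, fun _ h => absurd (by decide) h, fun _ _ => comm_1_11]

end Cfsg.Agent.G2FourMult
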