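import Cfsg.Agent.G2FourMult.CoverDefs

/-! Commutator relations of the lifts, roots 2 and 3. -/

set_option autoImplicit false
set_option maxRecDepth 100000
set_option maxHeartbeats 0
set_option Elab.async false

namespace Cfsg.Agent.G2FourMult

open Cfsg.Lie
open Cfsg.Agent.G2Four (K)

theorem comm_2_0 : ∀ t u : K, relB [(0, u), (2, t), (0, u), (2, t)]
    (chevG2.commWord K 2 0 t u) = true := by decide +kernel

theorem comm_2_1 : ∀ t u : K, relB [(1, u), (2, t), (1, u), (2, t)]
    (chevG2.commWord K 2 1 t u) = true := by decide +kernel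

theorem comm_2_3 : ∀ t u : K, relB [(3, u), (2, t), (3, u), (2, t)]
    (chevG2.commWord K 2 3 t u) = true := by decide +kernel

theorem comm_2_4 : ∀ t u : K, relB [(4, u), (2, t), (4, u), (2, t)]
    (chevG2.commWord K 2 4 t u) = true := by decide +kernel

theorem comm_2_5 : ∀ t u : K, relB [(5, u), (2, t), (5, u), (2, t)]
    (chevG2.commWord K 2 5 t u) = true := by decide +kernel

theorem comm_2_6 : ∀ t u : K, relB [(6, u), (2, t), (6, u), (2, t)]
    (chevG2.commWord K 2 6 t u) = true := by decide +kernel

theorem comm_2_7 : ∀ t u : K, relB [(7, u), (2, t), (7, u), (2, t)]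
    (chevG2.commWord K 2 7 t u) = true := by decide +kernel

theorem comm_2_8 : ∀ t u : K, relB [(8, u), (2, t), (8, u), (2, t)]
    (chevG2.commWord K 2 8 t u) = true := by decide +kernel

theorem comm_2_10 : ∀ t u : K, relB [(10, u), (2, t), (10, u), (2, t)]
    (chevG2.commWord K 2 10 t u) = true := by decide +kernel

theorem comm_2_11 : ∀ t u : K, relB [(11, u), (2, t), (11, u), (2, t)]
    (chevG2.commWord K 2 11 t u) = true := by decide +kernel

theorem comm_3_0 : ∀ t u : K, relB [(0, u), (3, t), (0, u), (3, t)]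
    (chevG2.commWord K 3 0 t u) = true := by decide +kernel

theorem comm_3_1 : ∀ t u : K, relB [(1, u), (3, t), (1, u), (3, t)]
    (chevG2.commWord K 3 1 t u) = true := by decide +kernel

theorem comm_3_2 : ∀ t u : K, relB [(2, u), (3, t), (2, u), (3, t)]
    (chevG2.commWord K 3 2 t u) = true := by decide +kernel

theorem comm_3_4 : ∀ t u : K, relB [(4, u), (3, t), (4, u), (3, t)]
    (chevG2.commWord K 3 4 t u) = true := by decide +kernel

theorem comm_3_5 : ∀ t u : K, relB [(5, u), (3, t), (5, u), (3, t)]
    (chevG2.commWord K 3 5 t u) = true := by decide +kernel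

theorem comm_3_6 : ∀ t u : K, relB [(6, u), (3, t), (6, u), (3, t)]
    (chevG2.commWord K 3 6 t u) = true := by decide +kernel

theorem comm_3_7 : ∀ t u : K, relB [(7, u), (3, t), (7, u), (3, t)]
    (chevG2.commWord K 3 7 t u) = true := by decide +kernel

theorem comm_3_9 : ∀ t u : K, relB [(9, u), (3, t), (9, u), (3, t)]
    (chevG2.commWord K 3 9 t u) = true := by decide +kernel

theorem comm_3_10 : ∀ t u : K, relB [(10, u), (3, t), (10, u), (3, t)]
    (chevG2.commWord K 3 10 t u) = true := by decide +kernel

theorem comm_3_11 : ∀ t u : K, relB [(11, u), (3, t), (11, u), (3, t)]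
    (chevG2.commWord K 3 11 t u) = true := by decide +kernel

attribute [local irreducible] relB ChevalleyDatum.commWord in
theorem comm_2 : CommRel 2 := by
  intro s
  fin_cases s
  exacts [fun _ _ => comm_2_0, fun _ _ => comm_2_1, fun h _ => absurd rfl h,
    fun _ _ => comm_2_3, fun _ _ => comm_2_4, fun _ _ => comm_2_5,
    fun _ _ => comm_2_6, fun _ _ => comm_2_7, fun _ _ => comm_2_8,
    fun _ h => absurd (by decide) h, fun _ _ => comm_2_10, fun _ _ => comm_2_11]

attribute [local irreducible] relB ChevalleyDatum.commWord in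
theorem comm_3 : CommRel 3 := by
  intro s
  fin_cases s
  exacts [fun _ _ => comm_3_0, fun _ _ => comm_3_1, fun _ _ => comm_3_2,
    fun h _ => absurd rfl h, fun _ _ => comm_3_4, fun _ _ => comm_3_5,
    fun _ _ => comm_3_6, fun _ _ => comm_3_7, fun _ h => absurd (by decide) h,
    fun _ _ => comm_3_9, fun _ _ => comm_3_10, fun _ _ => comm_3_11]

end Cfsg.Agent.G2FourMult
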