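import Cfsg.Agent.G2FourMult.CoverDefs

/-! Commutator relations of the lifts, roots 4 and 5. -/

set_option autoImplicit false
set_option maxRecDepth 100000
set_option maxHeartbeats 0
set_option Elab.async false

namespace Cfsg.Agent.G2FourMult

open Cfsg.Lie
open Cfsg.Agent.G2Four (K)

theorem comm_4_0 : ∀ t u : K, relB [(0, u), (4, t), (0, u), (4, t)]
    (chevG2.commWord K 4 0 t u) = true := by decide +kernel

theorem comm_4_1 : ∀ t u : K, relB [(1, u), (4, t), (1, u), (4, t)]
    (chevG2.commWord K 4 1 t u) = true := by decide +kernel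

theorem comm_4_2 : ∀ t u : K, relB [(2, u), (4, t), (2, u), (4, t)]
    (chevG2.commWord K 4 2 t u) = true := by decide +kernel

theorem comm_4_3 : ∀ t u : K, relB [(3, u), (4, t), (3, u), (4, t)]
    (chevG2.commWord K 4 3 t u) = true := by decide +kernel

theorem comm_4_5 : ∀ t u : K, relB [(5, u), (4, t), (5, u), (4, t)]
    (chevG2.commWord K 4 5 t u) = true := by decide +kernel

theorem comm_4_6 : ∀ t u : K, relB [(6, u), (4, t), (6, u), (4, t)]
    (chevG2.commWord K 4 6 t u) = true := by decide +kernel

theorem comm_4_8 : ∀ t u : K, relB [(8, u), (4, t), (8, u), (4, t)]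
    (chevG2.commWord K 4 8 t u) = true := by decide +kernel

theorem comm_4_9 : ∀ t u : K, relB [(9, u), (4, t), (9, u), (4, t)]
    (chevG2.commWord K 4 9 t u) = true := by decide +kernel

theorem comm_4_10 : ∀ t u : K, relB [(10, u), (4, t), (10, u), (4, t)]
    (chevG2.commWord K 4 10 t u) = true := by decide +kernel

theorem comm_4_11 : ∀ t u : K, relB [(11, u), (4, t), (11, u), (4, t)]
    (chevG2.commWord K 4 11 t u) = true := by decide +kernel

theorem comm_5_0 : ∀ t u : K, relB [(0, u), (5, t), (0, u), (5, t)]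
    (chevG2.commWord K 5 0 t u) = true := by decide +kernel

theorem comm_5_1 : ∀ t u : K, relB [(1, u), (5, t), (1, u), (5, t)]
    (chevG2.commWord K 5 1 t u) = true := by decide +kernel

theorem comm_5_2 : ∀ t u : K, relB [(2, u), (5, t), (2, u), (5, t)]
    (chevG2.commWord K 5 2 t u) = true := by decide +kernel

theorem comm_5_3 : ∀ t u : K, relB [(3, u), (5, t), (3, u), (5, t)]
    (chevG2.commWord K 5 3 t u) = true := by decide +kernel

theorem comm_5_4 : ∀ t u : K, relB [(4, u), (5, t), (4, u), (5, t)]
    (chevG2.commWord K 5 4 t u) = true := by decide +kernel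

theorem comm_5_7 : ∀ t u : K, relB [(7, u), (5, t), (7, u), (5, t)]
    (chevG2.commWord K 5 7 t u) = true := by decide +kernel

theorem comm_5_8 : ∀ t u : K, relB [(8, u), (5, t), (8, u), (5, t)]
    (chevG2.commWord K 5 8 t u) = true := by decide +kernel

theorem comm_5_9 : ∀ t u : K, relB [(9, u), (5, t), (9, u), (5, t)]
    (chevG2.commWord K 5 9 t u) = true := by decide +kernel

theorem comm_5_10 : ∀ t u : K, relB [(10, u), (5, t), (10, u), (5, t)]
    (chevG2.commWord K 5 10 t u) = true := by decide +kernel

theorem comm_5_11 : ∀ t u : K, relB [(11, u), (5, t), (11, u), (5, t)]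
    (chevG2.commWord K 5 11 t u) = true := by decide +kernel

attribute [local irreducible] relB ChevalleyDatum.commWord in
theorem comm_4 : CommRel 4 := by
  intro s
  fin_cases s
  exacts [fun _ _ => comm_4_0, fun _ _ => comm_4_1, fun _ _ => comm_4_2,
    fun _ _ => comm_4_3, fun h _ => absurd rfl h, fun _ _ => comm_4_5,
    fun _ _ => comm_4_6, fun _ h => absurd (by decide) h, fun _ _ => comm_4_8,
    fun _ _ => comm_4_9, fun _ _ => comm_4_10, fun _ _ => comm_4_11]

attribute [local irreducible] relB ChevalleyDatum.commWord in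
theorem comm_5 : CommRel 5 := by
  intro s
  fin_cases s
  exacts [fun _ _ => comm_5_0, fun _ _ => comm_5_1, fun _ _ => comm_5_2,
    fun _ _ => comm_5_3, fun _ _ => comm_5_4, fun h _ => absurd rfl h,
    fun _ h => absurd (by decide) h, fun _ _ => comm_5_7, fun _ _ => comm_5_8,
    fun _ _ => comm_5_9, fun _ _ => comm_5_10, fun _ _ => comm_5_11]

end Cfsg.Agent.G2FourMult
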