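import Cfsg.Agent.G2FourMult.CoverDefs

/-! Commutator relations of the lifts, roots 6 and 7. -/

set_option autoImplicit false
set_option maxRecDepth 100000
set_option maxHeartbeats 0
set_option Elab.async false

namespace Cfsg.Agent.G2FourMult

open Cfsg.Lie
open Cfsg.Agent.G2Four (K)

theorem comm_6_0 : ∀ t u : K, relB [(0, u), (6, t), (0, u), (6, t)]
    (chevG2.commWord K 6 0 t u) = true := by decide +kernel

theorem comm_6_1 : ∀ t u : K, relB [(1, u), (6, t), (1, u), (6, t)]
    (chevG2.commWord K 6 1 t u) = true := by decide +kernel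

theorem comm_6_2 : ∀ t u : K, relB [(2, u), (6, t), (2, u), (6, t)]
    (chevG2.commWord K 6 2 t u) = true := by decide +kernel

theorem comm_6_3 : ∀ t u : K, relB [(3, u), (6, t), (3, u), (6, t)]
    (chevG2.commWord K 6 3 t u) = true := by decide +kernel

theorem comm_6_4 : ∀ t u : K, relB [(4, u), (6, t), (4, u), (6, t)]
    (chevG2.commWord K 6 4 t u) = true := by decide +kernel

theorem comm_6_7 : ∀ t u : K, relB [(7, u), (6, t), (7, u), (6, t)]
    (chevG2.commWord K 6 7 t u) = true := by decide +kernel

theorem comm_6_8 : ∀ t u : K, relB [(8, u), (6, t), (8, u), (6, t)]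
    (chevG2.commWord K 6 8 t u) = true := by decide +kernel

theorem comm_6_9 : ∀ t u : K, relB [(9, u), (6, t), (9, u), (6, t)]
    (chevG2.commWord K 6 9 t u) = true := by decide +kernel

theorem comm_6_10 : ∀ t u : K, relB [(10, u), (6, t), (10, u), (6, t)]
    (chevG2.commWord K 6 10 t u) = true := by decide +kernel

theorem comm_6_11 : ∀ t u : K, relB [(11, u), (6, t), (11, u), (6, t)]
    (chevG2.commWord K 6 11 t u) = true := by decide +kernel

theorem comm_7_0 : ∀ t u : K, relB [(0, u), (7, t), (0, u), (7, t)]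
    (chevG2.commWord K 7 0 t u) = true := by decide +kernel

theorem comm_7_1 : ∀ t u : K, relB [(1, u), (7, t), (1, u), (7, t)]
    (chevG2.commWord K 7 1 t u) = true := by decide +kernel

theorem comm_7_2 : ∀ t u : K, relB [(2, u), (7, t), (2, u), (7, t)]
    (chevG2.commWord K 7 2 t u) = true := by decide +kernel

theorem comm_7_3 : ∀ t u : K, relB [(3, u), (7, t), (3, u), (7, t)]
    (chevG2.commWord K 7 3 t u) = true := by decide +kernel

theorem comm_7_5 : ∀ t u : K, relB [(5, u), (7, t), (5, u), (7, t)]
    (chevG2.commWord K 7 5 t u) = true := by decide +kernel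

theorem comm_7_6 : ∀ t u : K, relB [(6, u), (7, t), (6, u), (7, t)]
    (chevG2.commWord K 7 6 t u) = true := by decide +kernel

theorem comm_7_8 : ∀ t u : K, relB [(8, u), (7, t), (8, u), (7, t)]
    (chevG2.commWord K 7 8 t u) = true := by decide +kernel

theorem comm_7_9 : ∀ t u : K, relB [(9, u), (7, t), (9, u), (7, t)]
    (chevG2.commWord K 7 9 t u) = true := by decide +kernel

theorem comm_7_10 : ∀ t u : K, relB [(10, u), (7, t), (10, u), (7, t)]
    (chevG2.commWord K 7 10 t u) = true := by decide +kernel

theorem comm_7_11 : ∀ t u : K, relB [(11, u), (7, t), (11, u), (7, t)]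
    (chevG2.commWord K 7 11 t u) = true := by decide +kernel

attribute [local irreducible] relB ChevalleyDatum.commWord in
theorem comm_6 : CommRel 6 := by
  intro s
  fin_cases s
  exacts [fun _ _ => comm_6_0, fun _ _ => comm_6_1, fun _ _ => comm_6_2,
    fun _ _ => comm_6_3, fun _ _ => comm_6_4, fun _ h => absurd (by decide) h,
    fun h _ => absurd rfl h, fun _ _ => comm_6_7, fun _ _ => comm_6_8,
    fun _ _ => comm_6_9, fun _ _ => comm_6_10, fun _ _ => comm_6_11]

attribute [local irreducible] relB ChevalleyDatum.commWord in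
theorem comm_7 : CommRel 7 := by
  intro s
  fin_cases s
  exacts [fun _ _ => comm_7_0, fun _ _ => comm_7_1, fun _ _ => comm_7_2,
    fun _ _ => comm_7_3, fun _ h => absurd (by decide) h, fun _ _ => comm_7_5,
    fun _ _ => comm_7_6, fun h _ => absurd rfl h, fun _ _ => comm_7_8,
    fun _ _ => comm_7_9, fun _ _ => comm_7_10, fun _ _ => comm_7_11]

end Cfsg.Agent.G2FourMult
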