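import Cfsg.Agent.G2FourMult.CoverDefs

/-! Commutator relations of the lifts, roots 8 and 9. -/

set_option autoImplicit false
set_option maxRecDepth 100000
set_option maxHeartbeats 0
set_option Elab.async false

namespace Cfsg.Agent.G2FourMult

open Cfsg.Lie
open Cfsg.Agent.G2Four (K)

theorem comm_8_0 : ∀ t u : K, relB [(0, u), (8, t), (0, u), (8, t)]
    (chevG2.commWord K 8 0 t u) = true := by decide +kernel

theorem comm_8_1 : ∀ t u : K, relB [(1, u), (8, t), (1, u), (8, t)]
    (chevG2.commWord K 8 1 t u) = true := by decide +kernel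

theorem comm_8_2 : ∀ t u : K, relB [(2, u), (8, t), (2, u), (8, t)]
    (chevG2.commWord K 8 2 t u) = true := by decide +kernel

theorem comm_8_4 : ∀ t u : K, relB [(4, u), (8, t), (4, u), (8, t)]
    (chevG2.commWord K 8 4 t u) = true := by decide +kernel

theorem comm_8_5 : ∀ t u : K, relB [(5, u), (8, t), (5, u), (8, t)]
    (chevG2.commWord K 8 5 t u) = true := by decide +kernel

theorem comm_8_6 : ∀ t u : K, relB [(6, u), (8, t), (6, u), (8, t)]
    (chevG2.commWord K 8 6 t u) = true := by decide +kernel

theorem comm_8_7 : ∀ t u : K, relB [(7, u), (8, t), (7, u), (8, t)]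
    (chevG2.commWord K 8 7 t u) = true := by decide +kernel

theorem comm_8_9 : ∀ t u : K, relB [(9, u), (8, t), (9, u), (8, t)]
    (chevG2.commWord K 8 9 t u) = true := by decide +kernel

theorem comm_8_10 : ∀ t u : K, relB [(10, u), (8, t), (10, u), (8, t)]
    (chevG2.commWord K 8 10 t u) = true := by decide +kernel

theorem comm_8_11 : ∀ t u : K, relB [(11, u), (8, t), (11, u), (8, t)]
    (chevG2.commWord K 8 11 t u) = true := by decide +kernel

theorem comm_9_0 : ∀ t u : K, relB [(0, u), (9, t), (0, u), (9, t)]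
    (chevG2.commWord K 9 0 t u) = true := by decide +kernel

theorem comm_9_1 : ∀ t u : K, relB [(1, u), (9, t), (1, u), (9, t)]
    (chevG2.commWord K 9 1 t u) = true := by decide +kernel

theorem comm_9_3 : ∀ t u : K, relB [(3, u), (9, t), (3, u), (9, t)]
    (chevG2.commWord K 9 3 t u) = true := by decide +kernel

theorem comm_9_4 : ∀ t u : K, relB [(4, u), (9, t), (4, u), (9, t)]
    (chevG2.commWord K 9 4 t u) = true := by decide +kernel

theorem comm_9_5 : ∀ t u : K, relB [(5, u), (9, t), (5, u), (9, t)]
    (chevG2.commWord K 9 5 t u) = true := by decide +kernel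

theorem comm_9_6 : ∀ t u : K, relB [(6, u), (9, t), (6, u), (9, t)]
    (chevG2.commWord K 9 6 t u) = true := by decide +kernel

theorem comm_9_7 : ∀ t u : K, relB [(7, u), (9, t), (7, u), (9, t)]
    (chevG2.commWord K 9 7 t u) = true := by decide +kernel

theorem comm_9_8 : ∀ t u : K, relB [(8, u), (9, t), (8, u), (9, t)]
    (chevG2.commWord K 9 8 t u) = true := by decide +kernel

theorem comm_9_10 : ∀ t u : K, relB [(10, u), (9, t), (10, u), (9, t)]
    (chevG2.commWord K 9 10 t u) = true := by decide +kernel

theorem comm_9_11 : ∀ t u : K, relB [(11, u), (9, t), (11, u), (9, t)]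
    (chevG2.commWord K 9 11 t u) = true := by decide +kernel

attribute [local irreducible] relB ChevalleyDatum.commWord in
theorem comm_8 : CommRel 8 := by
  intro s
  fin_cases s
  exacts [fun _ _ => comm_8_0, fun _ _ => comm_8_1, fun _ _ => comm_8_2,
    fun _ h => absurd (by decide) h, fun _ _ => comm_8_4, fun _ _ => comm_8_5,
    fun _ _ => comm_8_6, fun _ _ => comm_8_7, fun h _ => absurd rfl h,
    fun _ _ => comm_8_9, fun _ _ => comm_8_10, fun _ _ => comm_8_11]

attribute [local irreducible] relB ChevalleyDatum.commWord in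
theorem comm_9 : CommRel 9 := by
  intro s
  fin_cases s
  exacts [fun _ _ => comm_9_0, fun _ _ => comm_9_1, fun _ h => absurd (by decide) h,
    fun _ _ => comm_9_3, fun _ _ => comm_9_4, fun _ _ => comm_9_5,
    fun _ _ => comm_9_6, fun _ _ => comm_9_7, fun _ _ => comm_9_8,
    fun h _ => absurd rfl h, fun _ _ => comm_9_10, fun _ _ => comm_9_11]

end Cfsg.Agent.G2FourMult
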