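import Cfsg.Agent.G2FourMult.CoverDefs

/-! Commutator relations of the lifts, roots 10 and 11. -/

set_option autoImplicit false
set_option maxRecDepth 100000
set_option maxHeartbeats 0
set_option Elab.async false

namespace Cfsg.Agent.G2FourMult

open Cfsg.Lie
open Cfsg.Agent.G2Four (K)

theorem comm_10_0 : ∀ t u : K, relB [(0, u), (10, t), (0, u), (10, t)]
    (chevG2.commWord K 10 0 t u) = true := by decide +kernel

theorem comm_10_2 : ∀ t u : K, relB [(2, u), (10, t), (2, u), (10, t)]
    (chevG2.commWord K 10 2 t u) = true := by decide +kernel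

theorem comm_10_3 : ∀ t u : K, relB [(3, u), (10, t), (3, u), (10, t)]
    (chevG2.commWord K 10 3 t u) = true := by decide +kernel

theorem comm_10_4 : ∀ t u : K, relB [(4, u), (10, t), (4, u), (10, t)]
    (chevG2.commWord K 10 4 t u) = true := by decide +kernel

theorem comm_10_5 : ∀ t u : K, relB [(5, u), (10, t), (5, u), (10, t)]
    (chevG2.commWord K 10 5 t u) = true := by decide +kernel

theorem comm_10_6 : ∀ t u : K, relB [(6, u), (10, t), (6, u), (10, t)]
    (chevG2.commWord K 10 6 t u) = true := by decide +kernel

theorem comm_10_7 : ∀ t u : K, relB [(7, u), (10, t), (7, u), (10, t)]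
    (chevG2.commWord K 10 7 t u) = true := by decide +kernel

theorem comm_10_8 : ∀ t u : K, relB [(8, u), (10, t), (8, u), (10, t)]
    (chevG2.commWord K 10 8 t u) = true := by decide +kernel

theorem comm_10_9 : ∀ t u : K, relB [(9, u), (10, t), (9, u), (10, t)]
    (chevG2.commWord K 10 9 t u) = true := by decide +kernel

theorem comm_10_11 : ∀ t u : K, relB [(11, u), (10, t), (11, u), (10, t)]
    (chevG2.commWord K 10 11 t u) = true := by decide +kernel

theorem comm_11_1 : ∀ t u : K, relB [(1, u), (11, t), (1, u), (11, t)]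
    (chevG2.commWord K 11 1 t u) = true := by decide +kernel

theorem comm_11_2 : ∀ t u : K, relB [(2, u), (11, t), (2, u), (11, t)]
    (chevG2.commWord K 11 2 t u) = true := by decide +kernel

theorem comm_11_3 : ∀ t u : K, relB [(3, u), (11, t), (3, u), (11, t)]
    (chevG2.commWord K 11 3 t u) = true := by decide +kernel

theorem comm_11_4 : ∀ t u : K, relB [(4, u), (11, t), (4, u), (11, t)]
    (chevG2.commWord K 11 4 t u) = true := by decide +kernel

theorem comm_11_5 : ∀ t u : K, relB [(5, u), (11, t), (5, u), (11, t)]
    (chevG2.commWord K 11 5 t u) = true := by decide +kernel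

theorem comm_11_6 : ∀ t u : K, relB [(6, u), (11, t), (6, u), (11, t)]
    (chevG2.commWord K 11 6 t u) = true := by decide +kernel

theorem comm_11_7 : ∀ t u : K, relB [(7, u), (11, t), (7, u), (11, t)]
    (chevG2.commWord K 11 7 t u) = true := by decide +kernel

theorem comm_11_8 : ∀ t u : K, relB [(8, u), (11, t), (8, u), (11, t)]
    (chevG2.commWord K 11 8 t u) = true := by decide +kernel

theorem comm_11_9 : ∀ t u : K, relB [(9, u), (11, t), (9, u), (11, t)]
    (chevG2.commWord K 11 9 t u) = true := by decide +kernel

theorem comm_11_10 : ∀ t u : K, relB [(10, u), (11, t), (10, u), (11, t)]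
    (chevG2.commWord K 11 10 t u) = true := by decide +kernel

attribute [local irreducible] relB ChevalleyDatum.commWord in
theorem comm_10 : CommRel 10 := by
  intro s
  fin_cases s
  exacts [fun _ _ => comm_10_0, fun _ h => absurd (by decide) h, fun _ _ => comm_10_2,
    fun _ _ => comm_10_3, fun _ _ => comm_10_4, fun _ _ => comm_10_5,
    fun _ _ => comm_10_6, fun _ _ => comm_10_7, fun _ _ => comm_10_8,
    fun _ _ => comm_10_9, fun h _ => absurd rfl h, fun _ _ => comm_10_11]

attribute [local irreducible] relB ChevalleyDatum.commWord in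
theorem comm_11 : CommRel 11 := by
  intro s
  fin_cases s
  exacts [fun _ h => absurd (by decide) h, fun _ _ => comm_11_1, fun _ _ => comm_11_2,
    fun _ _ => comm_11_3, fun _ _ => comm_11_4, fun _ _ => comm_11_5,
    fun _ _ => comm_11_6, fun _ _ => comm_11_7, fun _ _ => comm_11_8,
    fun _ _ => comm_11_9, fun _ _ => comm_11_10, fun h _ => absurd rfl h]

end Cfsg.Agent.G2FourMult
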