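import Cfsg.Agent.G2FourMult.Sheets
import Cfsg.Agent.G2FourMult.CoverCheck
import Cfsg.Agent.G2FourMult.CoverCommA
import Cfsg.Agent.G2FourMult.CoverCommB
import Cfsg.Agent.G2FourMult.CoverCommC
import Cfsg.Agent.G2FourMult.CoverCommD
import Cfsg.Agent.G2FourMult.CoverCommE
import Cfsg.Agent.G2FourMult.CoverCommF
import Cfsg.Agent.G2Four.Action

/-!
The lifts satisfy Steinberg's relations modulo the central shift, which gives a double cover of
`G2(4)`.
-/

set_option autoImplicit false
set_option maxRecDepth 100000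

namespace Cfsg.Agent.G2FourMult

open Cfsg.Agent.Compute Cfsg.Agent.StemCert.CyclicSheets Cfsg.Lie
open Cfsg.Agent.G2Four (K enc)

attribute [local irreducible] liftCode relB eqShiftB strip

theorem enc_lt (t : K) : enc t < 4 := by cases t <;> decide

theorem add_self (t : K) : t + t = .o := by cases t <;> decide

theorem liftCode_eq (r : ℕ) (t : K) : liftCode r t = liftCodes.getD (4 * r + enc t) 0 := by
  unfold liftCode; rfl

theorem good : Good := by
  have h := range_ok
  simp only [rangeB, Bool.and_eq_true, allBelow_eq_true, Nat.blt_eq, Nat.beq_eq] at h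
  have hz : ∀ r < 12, ∀ q < 2016, getField 13 (liftCode r .o) q = 4 * q := fun r hr q hq => by
    rw [liftCode_eq]
    exact h.2 r hr q hq
  refine ⟨fun r hr t => ?_, hz⟩
  have ht := enc_lt t
  have hlt : ∀ q < 2016, getField 13 (liftCode r t) q < 8064 := fun q hq => by
    rw [liftCode_eq]
    exact h.1 _ (by omega) q hq
  by_cases h0 : enc t = 0
  · rw [enc_eq_zero h0]
    refine ⟨fun i hi => by rw [hz r hr i hi]; omega, fun i j hi hj e => ?_⟩
    rw [hz r hr i hi, hz r hr j hj] at e
    omega
  · have e := add_rel ⟨r, hr⟩ t t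
    unfold relB at e
    rw [Bool.or_eq_true, add_self] at e
    have hn : Nat.beq (enc t) 0 = false := Bool.eq_false_iff.mpr (by simpa [Nat.beq_eq] using h0)
    simp only [strip_cons, hn, cond_false, show Nat.beq (enc (.o : K)) 0 = true from rfl,
      cond_true] at e
    unfold strip at e
    rcases e with e | e <;> exact ok_of_square (by norm_num) hlt e

/-- The centralizer of the shift. -/
noncomputable abbrev Cz : Subgroup (Equiv.Perm (Fin 8064)) :=
  Subgroup.centralizer ({zP} : Set (Equiv.Perm (Fin 8064)))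

/-- The shift in its centralizer. -/
noncomputable def zc : Cz := ⟨zP, Subgroup.mem_centralizer_iff.mpr fun _ h => by
  rw [Set.mem_singleton_iff.mp h]⟩

theorem zc_central (g : Cz) : g * zc = zc * g :=
  Subtype.ext (Subgroup.mem_centralizer_iff.mp g.2 zP rfl).symm

theorem zc_sq : zc * zc = 1 := Subtype.ext zP_sq

instance zs_normal : (Subgroup.zpowers zc).Normal := by
  constructor
  intro n hn g
  obtain ⟨k, rfl⟩ := Subgroup.mem_zpowers_iff.mp hn
  rw [(Commute.zpow_right (show Commute g zc from zc_central g) k).eq, mul_inv_cancel_right]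
  exact Subgroup.zpow_mem_zpowers _ k

/-- The quotient by the shift. -/
abbrev Q : Type := Cz ⧸ Subgroup.zpowers zc

theorem liftP_mem (r : ℕ) (t : K) : liftP r t ∈ Cz := by
  refine Subgroup.mem_centralizer_iff.mpr fun _ h => ?_
  rw [Set.mem_singleton_iff.mp h]
  by_cases hr : r < 12
  · have := wP_commute good (l := [(r, t)]) (by simp [hr])
    simpa [wP] using this
  · rw [liftP, if_neg hr, one_mul, mul_one]

/-- The lift of `x_r(t)` in the centralizer. -/
noncomputable def liftC (r : ℕ) (t : K) : Cz := ⟨liftP r t, liftP_mem r t⟩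

/-- The product along a word in the centralizer. -/
noncomputable def wC (l : List (ℕ × K)) : Cz := (l.map fun p => liftC p.1 p.2).prod

theorem wC_val : ∀ l : List (ℕ × K), (wC l : Equiv.Perm (Fin 8064)) = wP l
  | [] => rfl
  | p :: l => by
    rw [show wC (p :: l) = liftC p.1 p.2 * wC l from rfl, Subgroup.coe_mul, wC_val l, wP_cons]
    rfl

theorem wC_append (l m : List (ℕ × K)) : wC (l ++ m) = wC l * wC m := by
  rw [wC, wC, wC, List.map_append, List.prod_append]

/-- The class of a word. -/
noncomputable def wQ (l : List (ℕ × K)) : Q := (wC l : Q)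

theorem wQ_append (l m : List (ℕ × K)) : wQ (l ++ m) = wQ l * wQ m := by
  rw [wQ, wQ, wQ, wC_append]
  rfl

theorem wQ_congr {l m : List (ℕ × K)} (hl : ∀ p ∈ l, p.1 < 12) (hm : ∀ p ∈ m, p.1 < 12)
    (h : relB l m = true) : wQ l = wQ m := by
  rw [wQ, wQ, QuotientGroup.eq]
  rcases wP_of_relB good hl hm h with e | e
  · rw [show wC l = wC m from Subtype.ext (by rw [wC_val, wC_val, e]), inv_mul_cancel]
    exact one_mem _
  · rw [show wC l = wC m * zc from Subtype.ext (by rw [Subgroup.coe_mul, wC_val, wC_val]; exact e),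
      mul_inv_rev, inv_mul_cancel_right]
    exact inv_mem (Subgroup.mem_zpowers _)

theorem sq_rel {r : ℕ} (hr : r < 12) (t : K) : wQ [(r, t), (r, t)] = 1 := by
  have h := wQ_congr (l := [(r, t), (r, t)]) (m := [(r, t + t)]) (by simp [hr]) (by simp [hr])
    (add_rel ⟨r, hr⟩ t t)
  rw [h, add_self, wQ, show wC [(r, (.o : K))] = 1 from Subtype.ext (by
    rw [wC_val]
    refine Equiv.ext fun x => Fin.ext ?_
    rw [wP_apply good _ (by simp [hr]), strip_cons,
      show Nat.beq (enc (.o : K)) 0 = true from rfl, cond_true]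
    unfold strip
    rfl)]
  rfl

theorem gen_comm' (r : Fin 12) : CommRel r := by
  fin_cases r
  exacts [comm_0, comm_1, comm_2, comm_3, comm_4, comm_5, comm_6, comm_7, comm_8, comm_9, comm_10,
    comm_11]

universe u

variable {F : Type u} [Field F] (ψ : F →+* K)

/-- The image of a generator of the Steinberg group. -/
noncomputable def genImage (z : Fin chevG2.nroots × F) : Q := (liftC z.1 (ψ z.2) : Q)

theorem lift_stWord (l : List (ℕ × F)) :
    FreeGroup.lift (genImage ψ) (chevG2.stWord l) = wQ (l.map fun p => (p.1, ψ p.2)) := by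
  induction l with
  | nil => simp [ChevalleyDatum.stWord, wQ, wC]
  | cons p l ih =>
    rw [show chevG2.stWord (p :: l) = chevG2.stX p.1 p.2 * chevG2.stWord l by
        simp [ChevalleyDatum.stWord], map_mul, ih,
      show wQ ((p :: l).map fun p => (p.1, ψ p.2)) =
        ((liftC p.1 (ψ p.2) : Cz) : Q) * wQ (l.map fun p => (p.1, ψ p.2)) from rfl]
    congr 1
    rw [ChevalleyDatum.stX]
    by_cases h : p.1 < 12
    · rw [dif_pos (show p.1 < chevG2.nroots from h), FreeGroup.lift_apply_of]; rfl
    · rw [dif_neg (show ¬ p.1 < chevG2.nroots from h), map_one,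
        show liftC p.1 (ψ p.2) = 1 from Subtype.ext (by simp [liftC, liftP, h])]
      rfl

theorem lift_stX {r : ℕ} (hr : r < 12) (t : F) :
    FreeGroup.lift (genImage ψ) (chevG2.stX r t) = wQ [(r, ψ t)] := by
  rw [ChevalleyDatum.stX, dif_pos (show r < chevG2.nroots from hr), FreeGroup.lift_apply_of, wQ, wC]
  simp [genImage]

theorem lift_stX_inv {r : ℕ} (hr : r < 12) (t : F) :
    (FreeGroup.lift (genImage ψ) (chevG2.stX r t))⁻¹ = wQ [(r, ψ t)] := by
  rw [lift_stX ψ hr, inv_eq_iff_mul_eq_one, ← wQ_append]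
  exact sq_rel hr _

theorem lift_rels : ∀ g ∈ chevG2.steinbergRels F, FreeGroup.lift (genImage ψ) g = 1 := by
  rintro g ((⟨r, t₁, t₂, hr, rfl⟩ | ⟨r, s, t, u, hr, hs, h1, h2, rfl⟩) |
    ⟨r, t₁, t₂, hr, ht₁, ht₂, rfl⟩)
  · have hr' : r < 12 := hr
    rw [map_mul, map_mul, map_inv, mul_inv_eq_one, lift_stX ψ hr', lift_stX ψ hr', lift_stX ψ hr',
      map_add, ← wQ_append]
    exact wQ_congr (by simp [hr']) (by simp [hr']) (add_rel ⟨r, hr'⟩ _ _)
  · have hr' : r < 12 := hr
    have hs' : s < 12 := hs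
    simp only [map_mul, map_inv]
    rw [mul_inv_eq_one, lift_stX_inv ψ hs', lift_stX_inv ψ hr', lift_stX ψ hs', lift_stX ψ hr',
      lift_stWord, G2Four.map_commWord, ← wQ_append, ← wQ_append, ← wQ_append]
    refine wQ_congr (by simp [hr', hs']) ?_ (gen_comm' ⟨r, hr'⟩ ⟨s, hs'⟩ h1 h2 _ _)
    intro p hp
    obtain ⟨c, hc, rfl⟩ := List.mem_map.1 hp
    exact G2Four.commWord_lt ⟨r, hr'⟩ ⟨s, hs'⟩ c hc
  · have hr' : r < 12 := hr
    rw [map_mul, map_mul, map_inv, mul_inv_eq_one]
    simp only [ChevalleyDatum.stH, lift_stWord, G2Four.map_hWord, map_mul]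
    rw [← wQ_append]
    refine wQ_congr ?_ (G2Four.lt_of_mem_hWord hr' _)
      (h_rel ⟨r, hr'⟩ _ _ (by simpa using ht₁) (by simpa using ht₂))
    intro p hp
    rcases List.mem_append.1 hp with h | h
    exacts [G2Four.lt_of_mem_hWord hr' _ p h, G2Four.lt_of_mem_hWord hr' _ p h]

/-- The homomorphism to the quotient by the shift. -/
noncomputable def stQ : chevG2.SteinbergGroup F →* Q := PresentedGroup.toGroup (lift_rels ψ)

theorem stQ_gen {r : ℕ} (hr : r < 12) (t : F) :
    stQ ψ (PresentedGroup.mk (chevG2.steinbergRels F) (chevG2.stX r t)) =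
      ((liftC r (ψ t) : Cz) : Q) := by
  change FreeGroup.lift (genImage ψ) (chevG2.stX r t) = _
  rw [lift_stX ψ hr, wQ, wC]
  simp

end Cfsg.Agent.G2FourMult
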