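import Cfsg.Agent.StemCert.CyclicSheets
import Cfsg.Agent.G2Four.Rep
import Cfsg.Agent.G2FourMult.CoverData

/-! Boolean checks on the lifts of the root elements of `G2(4)` to 2016 blocks of four points. -/

set_option autoImplicit false

namespace Cfsg.Agent.G2FourMult

open Cfsg.Agent.Compute Cfsg.Agent.StemCert.CyclicSheets Cfsg.Lie
open Cfsg.Agent.G2Four (K enc)

/-- The code of the lift of `x_r(t)`. -/
noncomputable def liftCode (r : ℕ) (t : K) : ℕ :=
  liftCodes.getD (Nat.add (Nat.mul 4 r) (enc t)) 0

/-- The word without its trivial letters. -/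
noncomputable def strip (l : List (ℕ × K)) : List ℕ :=
  List.rec (motive := fun _ => List ℕ) []
    (fun p _ ih => cond (Nat.beq (enc p.2) 0) ih (liftCode p.1 p.2 :: ih)) l

/-- The action of a list of codes. -/
noncomputable def wAct (cs : List ℕ) (x : ℕ) : ℕ :=
  List.rec (motive := fun _ => ℕ) x (fun c _ ih => cAct 13 4 c ih) cs

/-- Two lists of codes agree up to the central shift by `d`. -/
noncomputable def eqShiftB (d : ℕ) (a b : List ℕ) : Bool :=
  allBelow 2016 fun q =>
    Nat.beq (wAct a (Nat.mul 4 q)) (wAct b (Nat.add (Nat.mul 4 q) d))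

/-- Two words agree up to the centre. -/
noncomputable def relB (l m : List (ℕ × K)) : Bool :=
  eqShiftB 0 (strip l) (strip m) || eqShiftB 2 (strip l) (strip m)

/-- The commutator relations of a pair of roots. -/
abbrev CommRel (r : Fin 12) : Prop :=
  ∀ s : Fin 12, (s : ℕ) ≠ r → (s : ℕ) ≠ chevG2.neg r → ∀ t u : K,
    relB [((s : ℕ), u), ((r : ℕ), t), ((s : ℕ), u), ((r : ℕ), t)]
      (chevG2.commWord K r s t u) = true

end Cfsg.Agent.G2FourMult
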