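import Cfsg.Agent.G2FourMult.Cover
import Cfsg.Agent.G2FourMult.CertCheck
import Cfsg.Agent.G2FourJ2.Rep
import Cfsg.Prelude.Def_KGroupFacts

/-!
The Schur multiplier of `G2(4)` is cyclic of order two: a certificate on 416 points bounds every stem
extension, and the lifts to 2016 blocks of four points give a double cover.
-/

set_option autoImplicit false
set_option maxHeartbeats 1000000
set_option maxRecDepth 100000

namespace Cfsg.Agent.G2FourMult

open Cfsg Cfsg.Lie Cfsg.Agent.Compute Cfsg.Agent.StemCert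
open Cfsg.Agent.G2Four (K enc)
open scoped commutatorElement

attribute [local irreducible] cert pvs codes genWords liftCode relB eqShiftB strip

/-- The field element with a given code. -/
def tK : ℕ → K
  | 0 => .o
  | 1 => .e
  | 2 => .w
  | _ => .w'

theorem enc_tK : ∀ k : Fin 4, enc (tK k) = (k : ℕ) := by decide

universe u

variable {F : Type u} [Field F] [Fintype F] (hF : Fintype.card F = 4) (ψ : F ≃+* K)
  (e : chevG2.SteinbergGroup F ≃* ↥(chevG2.group F))

/-- The root element `x_r(t)` of the group. -/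
noncomputable def xG (r : ℕ) (t : K) : ↥(chevG2.group F) :=
  e (PresentedGroup.mk (chevG2.steinbergRels F) (chevG2.stX r (ψ.symm t)))

/-- The numbered root elements. -/
noncomputable def rootN (i : ℕ) : ↥(chevG2.group F) := xG ψ e (i / 4) (tK (i % 4))

/-- The action on 416 points. -/
noncomputable def iota : ↥(chevG2.group F) →* Equiv.Perm (Fin 416) :=
  (G2FourJ2.stPerm (ψ : F →+* K)).comp e.symm.toMonoidHom

theorem coded_root : Coded (w := 9) (k := 48) (iota ψ e) (rootN ψ e) G2FourJ2.rootCodes := by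
  intro i hi x
  have hr : i / 4 < 12 := by omega
  have hx : PresentedGroup.mk (chevG2.steinbergRels F) (chevG2.stX (i / 4) (ψ.symm (tK (i % 4)))) =
      PresentedGroup.mk (chevG2.steinbergRels F) (chevG2.stWord [(i / 4, ψ.symm (tK (i % 4)))]) := by
    simp [ChevalleyDatum.stWord]
  rw [iota, rootN, xG, MonoidHom.comp_apply, MulEquiv.coe_toMonoidHom, MulEquiv.symm_apply_apply,
    hx, G2FourJ2.stPerm_stWord]
  simp only [List.map_cons, List.map_nil, RingHom.coe_coe, RingEquiv.apply_symm_apply]
  have h1 : G2FourJ2.rootCode (i / 4) (tK (i % 4)) = G2FourJ2.rootCodes.getD i 0 := by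
    rw [G2FourJ2.rootCode, show enc (tK (i % 4)) = i % 4 from enc_tK ⟨i % 4, by omega⟩]
    congr 1
    change 4 * (i / 4) + i % 4 = i
    omega
  rw [(G2FourJ2.wPerm_spec [(i / 4, tK (i % 4))] (by simp [hr])).2, G2FourJ2.wordCode_cons,
    G2FourJ2.wordCode_nil,
    G2FourJ2.den_comp (G2FourJ2.rootCode_ok hr _) (codePerm_id (by norm_num)), G2FourJ2.den_id,
    mul_one, G2FourJ2.den_apply416 (G2FourJ2.rootCode_ok hr _), h1]

/-- The five generators. -/
noncomputable def genG (s : ℕ) : ↥(chevG2.group F) := evalW (rootN ψ e) (genWords.getD s [])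

theorem coded_gen : Coded (w := 9) (k := 5) (iota ψ e) (genG ψ e) codes :=
  LeechModel.coded_of_wordsB (coded_root ψ e) words_ok

theorem hlt : ∀ b ∈ base, b < 416 := fun b hb => by
  simpa [Nat.blt_eq] using allB_spec blt_ok b hb

include hF e in
theorem card_group : Nat.card ↥(chevG2.group F) = 251596800 := by
  rw [← Nat.card_congr e.toEquiv, G2Four.card_steinberg hF]

include hF e in
theorem finite_group : Finite ↥(chevG2.group F) :=
  Nat.finite_of_card_ne_zero (by rw [card_group hF e]; norm_num)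

/-- The generators of the cover. -/
noncomputable def coverGens : Set (↥(chevG2.group F) × Cz) :=
  insert (1, zc) (Set.range fun p : Fin 12 × K => (xG ψ e (p.1 : ℕ) p.2, liftC (p.1 : ℕ) p.2))

/-- The cover. -/
noncomputable def cover : Subgroup (↥(chevG2.group F) × Cz) := Subgroup.closure (coverGens ψ e)

/-- The lift of a root element. -/
noncomputable def lift (r : Fin 12) (t : K) : cover ψ e :=
  ⟨(xG ψ e (r : ℕ) t, liftC (r : ℕ) t), Subgroup.subset_closure (Or.inr ⟨(r, t), rfl⟩)⟩

/-- The central element. -/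
noncomputable def zE : cover ψ e := ⟨(1, zc), Subgroup.subset_closure (Or.inl rfl)⟩

/-- The covering map. -/
noncomputable def proj : cover ψ e →* ↥(chevG2.group F) :=
  (MonoidHom.fst _ _).comp (cover ψ e).subtype

theorem compat {y : ↥(chevG2.group F) × Cz} (hy : y ∈ cover ψ e) :
    (y.2 : Q) = stQ (ψ : F →+* K) (e.symm y.1) := by
  let a : ↥(chevG2.group F) × Cz →* Q :=
    (QuotientGroup.mk' (Subgroup.zpowers zc)).comp (MonoidHom.snd _ _)
  let b : ↥(chevG2.group F) × Cz →* Q :=
    ((stQ (ψ : F →+* K)).comp e.symm.toMonoidHom).comp (MonoidHom.fst _ _)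
  have h : cover ψ e ≤ a.eqLocus b := by
    rw [cover, Subgroup.closure_le]
    rintro _ (rfl | ⟨⟨r, t⟩, rfl⟩)
    · change ((zc : Cz) : Q) = stQ (ψ : F →+* K) (e.symm 1)
      rw [map_one, map_one, QuotientGroup.eq_one_iff]
      exact Subgroup.mem_zpowers _
    · change ((liftC r t : Cz) : Q) = stQ (ψ : F →+* K) (e.symm (xG ψ e r t))
      rw [xG, MulEquiv.symm_apply_apply, stQ_gen _ r.2, RingHom.coe_coe,
        RingEquiv.apply_symm_apply]
  exact h hy

theorem ker_proj : (proj ψ e).ker = Subgroup.zpowers (zE ψ e) := by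
  refine le_antisymm (fun y hy => ?_) (Subgroup.zpowers_le.mpr (MonoidHom.mem_ker.mpr rfl))
  have h1 : y.1.1 = 1 := hy
  have h2 := compat ψ e y.2
  rw [h1, map_one, map_one, QuotientGroup.eq_one_iff, Subgroup.mem_zpowers_iff] at h2
  obtain ⟨k, hk⟩ := h2
  refine Subgroup.mem_zpowers_iff.mpr ⟨k, Subtype.ext (Prod.ext ?_ ?_)⟩
  · rw [h1, Subgroup.coe_zpow, Prod.pow_fst]
    exact one_zpow k
  · rw [← hk, Subgroup.coe_zpow, Prod.pow_snd]
    rfl

theorem order_zE : orderOf (zE ψ e) = 2 :=
  orderOf_eq_prime (Subtype.ext (Prod.ext (by simp [zE]) (by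
    rw [pow_two]; exact zc_sq))) fun h => zP_ne_one (congrArg (fun y : cover ψ e =>
      (y.1.2 : Equiv.Perm (Fin 8064))) h)

theorem zE_center : zE ψ e ∈ Subgroup.center (cover ψ e) :=
  Subgroup.mem_center_iff.mpr fun y =>
    Subtype.ext (Prod.ext (by simp [zE]) (zc_central _))

theorem xG_commute {r : ℕ} (hr : r < 12) (t u : K) :
    Commute (xG ψ e r t) (xG ψ e r u) := by
  have h : ∀ a b : F, PresentedGroup.mk (chevG2.steinbergRels F) (chevG2.stX r a) *
      PresentedGroup.mk (chevG2.steinbergRels F) (chevG2.stX r b) =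
      PresentedGroup.mk (chevG2.steinbergRels F) (chevG2.stX r (a + b)) := fun a b => by
    rw [← map_mul, ← mul_inv_eq_one, ← map_inv, ← map_mul]
    exact PresentedGroup.one_of_mem (Or.inl (Or.inl ⟨r, a, b, hr, rfl⟩))
  change xG ψ e r t * xG ψ e r u = xG ψ e r u * xG ψ e r t
  rw [xG, xG, ← e.map_mul, ← e.map_mul, h, h, add_comm]

theorem zE_eq_commutator : zE ψ e = ⁅lift ψ e 2 .e, lift ψ e 2 .w⁆ := by
  obtain ⟨ha, hb, hab⟩ := key_ok
  have sp : ∀ l : List (ℕ × K), (∀ p ∈ l, p.1 < 12) →
      eqShiftB 2 (strip l) [] = true → wC l = zc := fun l hl h => Subtype.ext (by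
    have h' := (wP_of_eqShift good hl (m := []) (by simp)).2 (by unfold strip at *; exact h)
    rw [wC_val, h']
    simp [wP, zc])
  have ea := sp [(2, .e), (2, .e)] (by simp) ha
  have eb := sp [(2, .w), (2, .w)] (by simp) hb
  have eab := sp [(2, .e), (2, .w), (2, .e), (2, .w)] (by simp) hab
  simp only [wC, List.map_cons, List.map_nil, List.prod_cons, List.prod_nil, mul_one] at ea eb eab
  have inv : ∀ c : Cz, c * c = zc → c⁻¹ = c * zc := fun c hc => inv_eq_of_mul_eq_one_right (by
    rw [← mul_assoc, hc, zc_sq])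
  refine Subtype.ext (Prod.ext ?_ ?_)
  · have h := xG_commute ψ e (r := 2) (by norm_num) (.e : K) (.w : K)
    simp only [commutatorElement_def, Subgroup.coe_mul, Subgroup.coe_inv, Prod.fst_mul,
      Prod.fst_inv, zE, lift]
    rw [← commutatorElement_def]
    exact (commutatorElement_eq_one_iff_commute.mpr h).symm
  · simp only [commutatorElement_def, Subgroup.coe_mul, Subgroup.coe_inv, Prod.snd_mul,
      Prod.snd_inv, zE, lift]
    change zc = liftC 2 .e * liftC 2 .w * (liftC 2 .e)⁻¹ * (liftC 2 .w)⁻¹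
    rw [inv _ ea, inv _ eb]
    calc zc = liftC 2 .e * (liftC 2 .w * (liftC 2 .e * liftC 2 .w)) := eab.symm
      _ = liftC 2 .e * (liftC 2 .w * (liftC 2 .e * liftC 2 .w)) * (zc * zc) := by
          rw [zc_sq, mul_one]
      _ = liftC 2 .e * liftC 2 .w * (liftC 2 .e * zc) * (liftC 2 .w * zc) := by
          simp only [mul_assoc]
          rw [← mul_assoc zc (liftC 2 .w) zc, ← zc_central (liftC 2 .w), mul_assoc]

include hF in
theorem proj_surjective : Function.Surjective (proj ψ e) := by
  haveI := finite_group hF e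
  intro x
  have hn : numForms cert.D = Nat.card ↥(chevG2.group F) := by rw [size_ok.1, card_group hF e]
  have hx := generates_of_card (coded_gen ψ e) wf_ok below_ok hlt distinct_ok hn x
  have hroot : ∀ i < 48, rootN ψ e i ∈ (proj ψ e).range := fun i hi =>
    ⟨lift ψ e ⟨i / 4, by omega⟩ (tK (i % 4)), rfl⟩
  have hgen : ∀ s < 5, genG ψ e s ∈ (proj ψ e).range := fun s hs => by
    have hw := allBelow_eq_true.mp words_ok s hs
    simp only [Bool.and_eq_true] at hw
    refine list_prod_mem fun y hy => ?_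
    obtain ⟨i, hi, rfl⟩ := List.mem_map.mp hy
    exact hroot i (Nat.blt_eq.mp (allB_spec hw.1 i hi))
  induction hx using Submonoid.closure_induction with
  | mem y hy =>
    obtain ⟨s, hs, rfl⟩ := hy
    exact hgen s hs
  | one => exact ⟨1, map_one _⟩
  | mul a b _ _ ha hb =>
    obtain ⟨a', rfl⟩ := ha
    obtain ⟨b', rfl⟩ := hb
    exact ⟨a' * b', map_mul _ _ _⟩

/-- The multiplier. -/
theorem multiplier {F : Type u} [Field F] [Fintype F] (hF : Fintype.card F = 4) :
    Cfsg.HasCyclicSchurMultiplier ↥(chevG2.group F) 2 := by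
  obtain ⟨e⟩ := G2Four.exists_steinberg_equiv F
  let ψ : F ≃+* K := FiniteField.ringEquivOfCardEq
    (hF.trans Cfsg.Agent.ThreeTrans.SU32.F4.card_eq.symm)
  haveI := finite_group hF e
  refine ⟨⟨cover ψ e, inferInstance, inferInstance, proj ψ e,
    ⟨proj_surjective hF ψ e, ?_, ?_⟩, ?_⟩, fun Γ _ _ σ hσ => ?_⟩
  · rw [ker_proj, Subgroup.zpowers_le]
    exact zE_center ψ e
  · rw [ker_proj, Subgroup.zpowers_le, zE_eq_commutator]
    exact Subgroup.commutator_mem_commutator (Subgroup.mem_top _) (Subgroup.mem_top _)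
  · haveI : IsCyclic (Subgroup.zpowers (zE ψ e)) := inferInstance
    have i : Multiplicative (ZMod 2) ≃* Subgroup.zpowers (zE ψ e) :=
      mulEquivOfCyclicCardEq (by
        rw [Nat.card_zpowers, order_zE]; simp [Nat.card_eq_fintype_card])
    exact ⟨(MulEquiv.subgroupCongr (ker_proj ψ e)).trans i.symm⟩
  · have hn : numForms cert.D = Nat.card ↥(chevG2.group F) := by rw [size_ok.1, card_group hF e]
    have hc := coded_gen ψ e
    have hb := isBase_of_card hc wf_ok below_ok hlt distinct_ok hn
    have := kernel_image (genG ψ e) checked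
      (tableOK_of_check hc hb wf_ok below_ok fun i hi =>
        allBelow_eq_true.mp table_ok i (shape_ok.1 ▸ hi))
      (faithful_of_distinct hc wf_ok below_ok hlt distinct_ok)
      (generates_of_card hc wf_ok below_ok hlt distinct_ok hn)
      (commProd_of_check hc hb pow_ok below_ok commData_ok comm_ok)
      (by rw [card_group hF e, size_ok.2]) σ hσ
    rwa [shape_ok.2.1] at this

end Cfsg.Agent.G2FourMult
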