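import Cfsg.Agent.G2FourMult.CoverDefs

/-!
The permutations of 8064 points given by the codes of the lifts, and the meaning of the checks.
-/

set_option autoImplicit false
set_option maxRecDepth 100000

namespace Cfsg.Agent.G2FourMult

open Cfsg.Agent.Compute Cfsg.Agent.StemCert.CyclicSheets
open Cfsg.Agent.G2Four (K enc)

attribute [local irreducible] liftCode

/-- The shift by `d` inside a block. -/
def sh (d x : ℕ) : ℕ := 4 * (x / 4) + (x + d) % 4

theorem cAct_sh (g d x : ℕ) : cAct 13 4 g (sh d x) = sh d (cAct 13 4 g x) := by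
  have h : sh d x / 4 = x / 4 := by unfold sh; omega
  rw [cAct_eq, cAct_eq, h]
  unfold sh
  omega

/-- The central shift. -/
def zP : Equiv.Perm (Fin 8064) :=
  Function.Involutive.toPerm (fun x => ⟨sh 2 x, by unfold sh; omega⟩) fun x => Fin.ext (by
    change sh 2 (sh 2 x) = x
    unfold sh
    omega)

theorem zP_apply (x : Fin 8064) : (zP x : ℕ) = sh 2 x := rfl

theorem zP_sq : zP * zP = 1 := Equiv.ext fun x => Fin.ext (by
  rw [Equiv.Perm.mul_apply, zP_apply, zP_apply, Equiv.Perm.one_apply]
  unfold sh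
  omega)

theorem zP_ne_one : zP ≠ 1 := fun h => by
  have := congrArg (fun σ => ((σ ⟨0, by norm_num⟩ : Fin 8064) : ℕ)) h
  simp [zP_apply, sh] at this

/-- The lift of `x_r(t)`. -/
noncomputable def liftP (r : ℕ) (t : K) : Equiv.Perm (Fin 8064) :=
  if r < 12 then cDen 13 4 2016 8064 (liftCode r t) (by norm_num) (by norm_num) else 1

/-- The product along a word. -/
noncomputable def wP (l : List (ℕ × K)) : Equiv.Perm (Fin 8064) :=
  (l.map fun p => liftP p.1 p.2).prod

theorem wP_append (l m : List (ℕ × K)) : wP (l ++ m) = wP l * wP m := by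
  rw [wP, wP, wP, List.map_append, List.prod_append]

theorem wP_cons (p : ℕ × K) (l : List (ℕ × K)) : wP (p :: l) = liftP p.1 p.2 * wP l := by
  simp [wP]

theorem enc_eq_zero {t : K} (h : enc t = 0) : t = .o := by cases t <;> simp [enc] at h ⊢

/-- The checked facts about one code. -/
def Good : Prop :=
  (∀ r < 12, ∀ t : K, COk 13 4 2016 (liftCode r t)) ∧
    ∀ r < 12, ∀ q < 2016, getField 13 (liftCode r .o) q = 4 * q

variable (hg : Good)

theorem wAct_cons (c : ℕ) (cs : List ℕ) (x : ℕ) :
    wAct (c :: cs) x = cAct 13 4 c (wAct cs x) := rfl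

theorem wAct_nil (x : ℕ) : wAct [] x = x := rfl

theorem wAct_sh : ∀ (cs : List ℕ) (d x : ℕ), wAct cs (sh d x) = sh d (wAct cs x)
  | [], _, _ => rfl
  | c :: cs, d, x => by rw [wAct_cons, wAct_cons, wAct_sh cs d x, cAct_sh]

theorem strip_cons (p : ℕ × K) (l : List (ℕ × K)) : strip (p :: l) =
    cond (Nat.beq (enc p.2) 0) (strip l) (liftCode p.1 p.2 :: strip l) := rfl

include hg in
theorem liftP_apply {r : ℕ} (hr : r < 12) (t : K) (x : Fin 8064) :
    (liftP r t x : ℕ) = cAct 13 4 (liftCode r t) x := by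
  rw [liftP, if_pos hr]
  exact cDen_apply (hg.1 r hr t) x

include hg in
theorem wP_apply : ∀ (l : List (ℕ × K)), (∀ p ∈ l, p.1 < 12) → ∀ x : Fin 8064,
    (wP l x : ℕ) = wAct (strip l) x
  | [], _, x => by simp [wP, strip, wAct_nil]
  | p :: l, h, x => by
    have ih := wP_apply l (fun q hq => h q (List.mem_cons_of_mem _ hq)) x
    have hp := h p List.mem_cons_self
    rw [wP_cons, Equiv.Perm.mul_apply, liftP_apply hg hp, ih, strip_cons]
    by_cases h0 : enc p.2 = 0
    · rw [h0, enc_eq_zero h0]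
      have hx : wAct (strip l) x / 4 < 2016 := by
        have := (wP l x).2
        omega
      rw [show Nat.beq 0 0 = true from rfl, cond_true, cAct_eq, hg.2 _ hp _ hx]
      omega
    · rw [show Nat.beq (enc p.2) 0 = false from
        Bool.eq_false_iff.mpr (by simpa [Nat.beq_eq] using h0), cond_false, wAct_cons]

include hg in
theorem wP_commute {l : List (ℕ × K)} (hl : ∀ p ∈ l, p.1 < 12) : zP * wP l = wP l * zP :=
  Equiv.ext fun x => Fin.ext (by
    rw [Equiv.Perm.mul_apply, Equiv.Perm.mul_apply, zP_apply, wP_apply hg l hl, wP_apply hg l hl,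
      zP_apply, wAct_sh])

theorem eqShift_spec {d : ℕ} {a b : List ℕ} (h : eqShiftB d a b = true) {q : ℕ} (hq : q < 2016) :
    wAct a (4 * q) = wAct b (4 * q + d) :=
  Nat.eq_of_beq_eq_true (allBelow_eq_true.mp h q hq)

theorem eqShift_all {d : ℕ} (hd : d < 4) {a b : List ℕ} (h : eqShiftB d a b = true) {x : ℕ}
    (hx : x < 8064) : wAct a x = wAct b (sh d x) := by
  have e := eqShift_spec h (q := x / 4) (by omega)
  have h1 : sh (x % 4) (4 * (x / 4)) = x := by unfold sh; omega
  have h2 : sh (x % 4) (4 * (x / 4) + d) = sh d x := by unfold sh; omega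
  rw [← h2, wAct_sh, ← e, ← wAct_sh, h1]

include hg in
theorem wP_of_eqShift {l m : List (ℕ × K)} (hl : ∀ p ∈ l, p.1 < 12) (hm : ∀ p ∈ m, p.1 < 12) :
    (eqShiftB 0 (strip l) (strip m) = true → wP l = wP m) ∧
      (eqShiftB 2 (strip l) (strip m) = true → wP l = wP m * zP) := by
  refine ⟨fun h => Equiv.ext fun x => Fin.ext ?_, fun h => Equiv.ext fun x => Fin.ext ?_⟩
  · rw [wP_apply hg l hl, wP_apply hg m hm, eqShift_all (by norm_num) h x.2]
    congr 1
    unfold sh
    omega
  · rw [wP_apply hg l hl, Equiv.Perm.mul_apply, wP_apply hg m hm, zP_apply,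
      eqShift_all (by norm_num) h x.2]

include hg in
theorem wP_of_relB {l m : List (ℕ × K)} (hl : ∀ p ∈ l, p.1 < 12) (hm : ∀ p ∈ m, p.1 < 12)
    (h : relB l m = true) : wP l = wP m ∨ wP l = wP m * zP := by
  rw [relB, Bool.or_eq_true] at h
  exact h.imp (wP_of_eqShift hg hl hm).1 (wP_of_eqShift hg hl hm).2

/-- A code with square in the centre is valid. -/
theorem ok_of_square {c d : ℕ} (hd : d < 4) (hr : ∀ q < 2016, getField 13 c q < 8064)
    (h : eqShiftB d [c, c] [] = true) : COk 13 4 2016 c := by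
  have key : ∀ q < 2016, getField 13 c (getField 13 c q / 4) / 4 = q := fun q hq => by
    have e := eqShift_spec h hq
    simp only [wAct_cons, wAct_nil] at e
    have e' := congrArg (· / 4) e
    simp only [cAct_div (show 0 < 4 by norm_num), Nat.mul_div_cancel_left _ (show 0 < 4 by norm_num)]
      at e'
    omega
  refine ⟨fun i hi => by have := hr i hi; omega, fun i j hi hj e => ?_⟩
  rw [← key i hi, ← key j hj, e]

end Cfsg.Agent.G2FourMult
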